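import Cfsg.Agent.H779.G2.Stmts4
import Cfsg.Agent.H103.GT.Coord
import Cfsg.Agent.H294.G2.TI

/-!
# S5211, `q = 2`: the automorphisms of `GU K` (helper809)

* `two_elts` : `x = 0 ∨ x = 1`;
* `stAut2 : StAut2`.
-/

set_option autoImplicit false

namespace Cfsg.Agent.H809.GT

open Cfsg Cfsg.Agent.H779.G2 Cfsg.Agent.H756.PU Cfsg.Agent.H103.GT
open Cfsg.Agent.H294.G2 (Ch ch_center ch_cent ch_bot ch_Z1 comm_a comm_b comm_c comm_d comm_e comm_f com_Z2 eq_one_of)

universe u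

section two

variable {K : Type u} [Field K]

theorem two_elts (h : HypG K 2 1) (x : K) : x = 0 ∨ x = 1 := by
  have := h.fin
  have : Fintype K := Fintype.ofFinite K
  have h1 := FiniteField.pow_card x
  rw [← Nat.card_eq_fintype_card, h.card] at h1
  have h2 : x * (x - 1) = 0 := by
    linear_combination h1
  rcases mul_eq_zero.1 h2 with h3 | h3
  · exact Or.inl h3
  · exact Or.inr (sub_eq_zero.1 h3)

theorem two_zero (h : HypG K 2 1) : (2 : K) = 0 := by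
  have := h.char
  exact_mod_cast CharP.cast_eq_zero K 2

theorem three_ne' (h : HypG K 2 1) : (3 : K) ≠ 0 := by
  have h2 := two_zero h
  intro h3
  have : (1 : K) = 0 := by linear_combination h3 - h2
  exact one_ne_zero this

theorem same (h : HypG K 2 1) {x y : K} (hxy : x = 0 ↔ y = 0) : x = y := by
  rcases two_elts h x with rfl | rfl <;> rcases two_elts h y with rfl | rfl
  · rfl
  · exact absurd (hxy.1 rfl) one_ne_zero
  · exact absurd (hxy.2 rfl) one_ne_zero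
  · rfl

end two

/-! ### automorphisms of odd order of chains -/

section chain

variable {G : Type u} [Group G]

theorem fix_step {β : MulAut G} {m : ℕ} (hm : Odd m) (hβ : β ^ m = 1) (hG : ∀ g : G, g ^ 64 = 1) {P Q : G → Prop}
    (hP : ∀ x, P x → β x = x) (hQ : ∀ x, Q x → P (x⁻¹ * β x)) : ∀ x, Q x → β x = x := by
  intro x hx
  set h := x⁻¹ * β x with hh
  have h1 : β h = h := hP h (hQ x hx)
  have h2 : β x = x * h := by rw [hh, mul_inv_cancel_left]
  have h3 : ∀ j : ℕ, (β ^ j) x = x * h ^ j := by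
    intro j
    induction j with
    | zero => rw [pow_zero, pow_zero, mul_one]; rfl
    | succ j ih =>
      rw [pow_succ', MulAut.mul_apply, ih, map_mul, map_pow, h1, h2, mul_assoc, ← pow_succ']
  have h4 := h3 m
  rw [hβ, MulAut.one_apply, left_eq_mul] at h4
  have h5 : h = 1 := by
    have h6 : orderOf h ∣ m := orderOf_dvd_of_pow_eq_one h4
    have h7 : orderOf h ∣ 64 := orderOf_dvd_of_pow_eq_one (hG h)
    have h8 : Nat.Coprime m 64 := by
      have : (64 : ℕ) = 2 ^ 6 := by norm_num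
      rw [this]
      exact Nat.Coprime.pow_right _ ((Nat.coprime_two_right).2 hm)
    have h9 : orderOf h = 1 := Nat.eq_one_of_dvd_coprimes h8 h6 h7
    exact orderOf_eq_one_iff.1 h9
  rw [h2, h5, mul_one]

end chain

section main

variable {K : Type u} [Field K]

/-- the second centre for `q = 2` -/
def K1 (K : Type u) [Field K] (h : HypG K 2 1) : Subgroup (GU K) where
  carrier := {g | g.a = 0 ∧ g.b = 0 ∧ g.c = g.d}
  one_mem' := by simp
  mul_mem' := by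
    rintro x y ⟨h1, h2, h3⟩ ⟨k1, k2, k3⟩
    have := two_zero h
    refine ⟨?_, ?_, ?_⟩
    · rw [GU.mul_a, h1, k1, add_zero]
    · rw [GU.mul_b, h2, k2, add_zero]
    · rw [GU.mul_c, GU.mul_d, h2, k1, h3, k3]
      ring
  inv_mem' := by
    rintro x ⟨h1, h2, h3⟩
    refine ⟨?_, ?_, ?_⟩
    · rw [GU.inv_a, h1, neg_zero]
    · rw [GU.inv_b, h2, neg_zero]
    · rw [GU.inv_c, GU.inv_d, h1, h3]
      ring

theorem mem_K1 {h : HypG K 2 1} {x : GU K} : x ∈ K1 K h ↔ x.a = 0 ∧ x.b = 0 ∧ x.c = x.d := Iff.rfl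

theorem ch_K1 (h : HypG K 2 1) : Ch (K1 K h) := by
  have h2 := two_zero h
  have h3 := three_ne' h
  refine ch_center (ch_Z1 h3) fun x => ⟨fun hx g => ?_, fun hx => ?_⟩
  · obtain ⟨ha, hb, hc⟩ := hx
    refine ⟨comm_a g x, comm_b g x, ?_, ?_, ?_⟩
    · rw [comm_c, ha, hb]
      ring
    · rw [comm_d, ha, hb]
      linear_combination (-g.a * x.c) * h2
    · rw [comm_e, ha, hb, hc]
      rcases two_elts h g.a with h4 | h4
      · rw [h4]; ring
      · rw [h4]; ring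
  · obtain ⟨ha, hb⟩ := Cfsg.Agent.H294.G2.ab_of (x := x) (hx _).2.2.1 (hx _).2.2.1
    have e1 := (hx ⟨1, 0, 0, 0, 0, 0⟩).2.2.2.2
    rw [comm_e, ha, hb] at e1
    simp only at e1
    refine ⟨ha, hb, ?_⟩
    have k1 : 3 * (x.c - x.d) = 0 := by linear_combination e1
    exact sub_eq_zero.1 ((mul_eq_zero.1 k1).resolve_left h3)

theorem ch_Z2' (h : HypG K 2 1) : Ch (Z2 K) := by
  have h2 := two_zero h
  intro α x hx
  obtain ⟨ha, hb, hc, hd⟩ := hx
  have h1 : x ∈ K1 K h := ⟨ha, hb, by rw [hc, hd]⟩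
  obtain ⟨ka, kb, kc⟩ := ch_K1 h α x h1
  have h4 : x * x = 1 := by
    refine GU.ext ?_ ?_ ?_ ?_ ?_ ?_
    · rw [GU.mul_a, ha]; simp
    · rw [GU.mul_b, hb]; simp
    · rw [GU.mul_c, ha, hb, hc]; simp
    · rw [GU.mul_d, ha, hb, hc, hd]; simp
    · rw [GU.mul_e, ha, hb, hc, hd, GU.one_e]
      linear_combination x.e * h2
    · rw [GU.mul_f, ha, hb, hc, hd, GU.one_f]
      linear_combination x.f * h2
  have h5 : α x * α x = 1 := by rw [← map_mul, h4, map_one]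
  have h6 := congrArg GU.f h5
  rw [GU.mul_f, ka, kb, kc, GU.one_f] at h6
  have h7 : (α x).d * (α x).d = 0 := by linear_combination h6 - ((α x).f + (α x).d * (α x).d) * h2
  have h8 : (α x).d = 0 := mul_self_eq_zero.1 h7
  exact ⟨ka, kb, by rw [kc, h8], h8⟩

theorem ch_Qb' (h : HypG K 2 1) : Ch (Qb K) := by
  refine ch_cent (ch_Z2' h) ch_bot fun x => ?_
  rw [← cent_Z2]
  refine forall_congr' fun y => forall_congr' fun _ => ?_
  rw [Subgroup.mem_bot, mul_inv_eq_one, mul_inv_eq_iff_eq_mul]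

theorem inv_mul_Z1 {u v : GU K} (ha : u.a = v.a) (hb : u.b = v.b) (hc : u.c = v.c) (hd : u.d = v.d) (he : u.e = v.e) :
    u⁻¹ * v ∈ Z1 K := by
  refine ⟨?_, ?_, ?_, ?_, ?_⟩
  · rw [GU.mul_a, GU.inv_a, ha]; ring
  · rw [GU.mul_b, GU.inv_b, hb]; ring
  · rw [GU.mul_c, GU.inv_c, GU.inv_b, ha, hb, hc]; ring
  · rw [GU.mul_d, GU.inv_d, GU.inv_c, GU.inv_b, ha, hb, hc, hd]; ring
  · rw [GU.mul_e, GU.inv_e, GU.inv_d, GU.inv_c, GU.inv_b, ha, hb, hc, hd, he]; ring

theorem mem_Qa_iff' (h : HypG K 2 1) {x : GU K} : x ∈ Qa K ↔ ∀ g g' : GU K, x * g * x⁻¹ * g⁻¹ ∈ Z1 K ∨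
    x * g' * x⁻¹ * g'⁻¹ ∈ Z1 K ∨ (x * g * x⁻¹ * g⁻¹)⁻¹ * (x * g' * x⁻¹ * g'⁻¹) ∈ Z1 K := by
  have h2 := two_zero h
  constructor
  · intro hx g g'
    have hxa : x.a = 0 := hx
    rcases two_elts h g.a with h4 | h4
    · left
      refine ⟨comm_a _ _, comm_b _ _, ?_, ?_, ?_⟩
      · rw [comm_c, hxa, h4]; ring
      · rw [comm_d, hxa, h4]; ring
      · rw [comm_e, hxa, h4]; ring
    · rcases two_elts h g'.a with h5 | h5
      · right; left
        refine ⟨comm_a _ _, comm_b _ _, ?_, ?_, ?_⟩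
        · rw [comm_c, hxa, h5]; ring
        · rw [comm_d, hxa, h5]; ring
        · rw [comm_e, hxa, h5]; ring
      · right; right
        refine inv_mul_Z1 ?_ ?_ ?_ ?_ ?_
        · rw [cm_a, cm_a]
        · rw [cm_b, cm_b]
        · rw [cm_c, cm_c, hxa, h4, h5]; ring
        · rw [cm_d, cm_d, hxa, h4, h5]; ring
        · rw [cm_e, cm_e, hxa, h4, h5]; ring
  · intro hx
    rcases two_elts h x.a with h4 | h4
    · exact h4
    exfalso
    rcases hx (x2 1) (x4 1) with h5 | h5 | h5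
    · have h6 := h5.2.2.1
      rw [cm_c, h4] at h6
      simp [x2] at h6
    · have h6 := h5.2.2.2.2
      rw [cm_e, h4] at h6
      simp [x4] at h6
      exact three_ne' h h6
    · have h6 := h5.2.2.1
      simp only [GU.mul_c, GU.inv_c, GU.inv_b, GU.inv_a, cm_a, cm_b, cm_c, h4] at h6
      simp [x2, x4] at h6

theorem ch_Qa' (h : HypG K 2 1) : Ch (Qa K) := by
  intro α x hx
  rw [mem_Qa_iff' h] at hx ⊢
  intro g g'
  have hZ := ch_Z1 (three_ne' h)
  have h1 : α (α⁻¹ g) = g := MulAut.apply_inv_self _ α g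
  have h1' : α (α⁻¹ g') = g' := MulAut.apply_inv_self _ α g'
  rcases hx (α⁻¹ g) (α⁻¹ g') with h2 | h2 | h2
  · left
    have := hZ α _ h2
    rwa [map_mul, map_mul, map_mul, map_inv, map_inv, h1] at this
  · right; left
    have := hZ α _ h2
    rwa [map_mul, map_mul, map_mul, map_inv, map_inv, h1'] at this
  · right; right
    have := hZ α _ h2
    rwa [map_mul, map_inv, map_mul, map_mul, map_mul, map_mul, map_mul, map_mul, map_inv, map_inv, map_inv, h1, h1']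
      at this

theorem Ch.iff {G : Type u} [Group G] {A : Subgroup G} (hA : Ch A) (α : MulAut G) (x : G) : α x ∈ A ↔ x ∈ A := by
  constructor
  · intro h
    have h1 := hA α⁻¹ _ h
    rwa [MulAut.inv_apply_self] at h1
  · exact hA α x

theorem pow_64 (h : HypG K 2 1) (g : GU K) : g ^ 64 = 1 := by
  have := h.fin
  have h1 : g ^ Nat.card (GU K) = 1 := pow_card_eq_one'
  rwa [GU.card_eq, h.card] at h1

/-- automorphisms of odd order are trivial -/
theorem odd_trivial (h : HypG K 2 1) {β : MulAut (GU K)} {m : ℕ} (hm : Odd m) (hβ : β ^ m = 1) : β = 1 := by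
  have h3 := three_ne' h
  have hG := pow_64 h
  have f0 : ∀ x, x ∈ (⊥ : Subgroup (GU K)) → β x = x := by
    intro x hx
    rw [Subgroup.mem_bot] at hx
    rw [hx, map_one]
  have f1 : ∀ x, x ∈ Z1 K → β x = x := by
    refine fix_step hm hβ hG f0 fun x hx => ?_
    have hy := ch_Z1 h3 β x hx
    have hf : (β x).f = x.f := by
      apply same h
      have h4 : β x = 1 ↔ x = 1 := by rw [map_eq_one_iff β β.injective]
      have h5 : ∀ y : GU K, y ∈ Z1 K → (y.f = 0 ↔ y = 1) := by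
        intro y hy
        constructor
        · intro h6
          exact GU.ext hy.1 hy.2.1 hy.2.2.1 hy.2.2.2.1 hy.2.2.2.2 h6
        · rintro rfl
          rfl
      rw [h5 _ hy, h5 _ hx, h4]
    rw [Subgroup.mem_bot, inv_mul_eq_one]
    obtain ⟨a1, a2, a3, a4, a5⟩ := hx
    obtain ⟨b1, b2, b3, b4, b5⟩ := hy
    exact GU.ext (a1.trans b1.symm) (a2.trans b2.symm) (a3.trans b3.symm) (a4.trans b4.symm) (a5.trans b5.symm) hf.symm
  have f2 : ∀ x, x ∈ Z2 K → β x = x := by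
    refine fix_step hm hβ hG f1 fun x hx => ?_
    have hy := ch_Z2' h β x hx
    have hf : (β x).e = x.e := by
      apply same h
      have h5 : ∀ y : GU K, y ∈ Z2 K → (y.e = 0 ↔ y ∈ Z1 K) := fun y hy =>
        ⟨fun h6 => ⟨hy.1, hy.2.1, hy.2.2.1, hy.2.2.2, h6⟩, fun h6 => h6.2.2.2.2⟩
      rw [h5 _ hy, h5 _ hx, Ch.iff (ch_Z1 h3)]
    obtain ⟨a1, a2, a3, a4⟩ := hx
    obtain ⟨b1, b2, b3, b4⟩ := hy
    refine ⟨?_, ?_, ?_, ?_, ?_⟩
    · rw [GU.mul_a, GU.inv_a, a1, b1]; ring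
    · rw [GU.mul_b, GU.inv_b, a2, b2]; ring
    · rw [GU.mul_c, GU.inv_c, GU.inv_b, a1, a2, a3, b1, b3]; ring
    · rw [GU.mul_d, GU.inv_d, GU.inv_c, GU.inv_b, a1, a2, a3, a4, b1, b4]; ring
    · rw [GU.mul_e, GU.inv_e, GU.inv_d, GU.inv_c, GU.inv_b, a1, a2, a3, a4, b1, hf]; ring
  have f3 : ∀ x, x ∈ K1 K h → β x = x := by
    refine fix_step hm hβ hG f2 fun x hx => ?_
    have hy := ch_K1 h β x hx
    have hf : (β x).c = x.c := by
      apply same h
      have h5 : ∀ y : GU K, y ∈ K1 K h → (y.c = 0 ↔ y ∈ Z2 K) := fun y hy =>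
        ⟨fun h6 => ⟨hy.1, hy.2.1, h6, by rw [← hy.2.2, h6]⟩, fun h6 => h6.2.2.1⟩
      rw [h5 _ hy, h5 _ hx, Ch.iff (ch_Z2' h)]
    obtain ⟨a1, a2, a3⟩ := hx
    obtain ⟨b1, b2, b3⟩ := hy
    refine ⟨?_, ?_, ?_, ?_⟩
    · rw [GU.mul_a, GU.inv_a, a1, b1]; ring
    · rw [GU.mul_b, GU.inv_b, a2, b2]; ring
    · rw [GU.mul_c, GU.inv_c, GU.inv_b, a1, a2, b1, hf]; ring
    · rw [GU.mul_d, GU.inv_d, GU.inv_c, GU.inv_b, a1, a2, ← a3, b1, ← b3, hf]; ring
  have f4 : ∀ x, x ∈ Z4 K → β x = x := by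
    refine fix_step hm hβ hG f3 fun x hx => ?_
    have hy : β x ∈ Z4 K := ⟨ch_Qa' h β x hx.1, ch_Qb' h β x hx.2⟩
    have hf : (β x).c - (β x).d = x.c - x.d := by
      apply same h
      have h5 : ∀ y : GU K, y ∈ Z4 K → (y.c - y.d = 0 ↔ y ∈ K1 K h) := fun y hy =>
        ⟨fun h6 => ⟨hy.1, hy.2, sub_eq_zero.1 h6⟩, fun h6 => sub_eq_zero.2 h6.2.2⟩
      rw [h5 _ hy, h5 _ hx, Ch.iff (ch_K1 h)]
    obtain ⟨a1, a2⟩ := hx
    obtain ⟨b1, b2⟩ := hy
    refine ⟨?_, ?_, ?_⟩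
    · rw [GU.mul_a, GU.inv_a, a1, b1]; ring
    · rw [GU.mul_b, GU.inv_b, a2, b2]; ring
    · rw [GU.mul_c, GU.inv_c, GU.mul_d, GU.inv_d, GU.inv_c, GU.inv_b, a1, a2, b1]
      linear_combination hf
  have f5 : ∀ x, x ∈ Qa K → β x = x := by
    refine fix_step hm hβ hG f4 fun x hx => ?_
    have hy := ch_Qa' h β x hx
    have hf : (β x).b = x.b := same h (Ch.iff (ch_Qb' h) β x)
    have a1 : x.a = 0 := hx
    have b1 : (β x).a = 0 := hy
    refine ⟨?_, ?_⟩
    · rw [GU.mul_a, GU.inv_a, a1, b1]; ring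
    · rw [GU.mul_b, GU.inv_b, hf]; ring
  have f6 : ∀ x, True → β x = x := by
    refine fix_step hm hβ hG f5 fun x _ => ?_
    have hf : (β x).a = x.a := same h (Ch.iff (ch_Qa' h) β x)
    show (x⁻¹ * β x).a = 0
    rw [GU.mul_a, GU.inv_a, hf]; ring
  ext1 x
  exact f6 x trivial

theorem stAut2 : StAut2.{u} := by
  intro K _ h
  refine ⟨fun α => ?_, fun α => ⟨(ch_Qa' h).map α, (ch_Qb' h).map α⟩⟩
  have := h.fin
  have : Finite (MulAut (GU K)) := Finite.of_injective (fun α : MulAut (GU K) => (α : GU K → GU K)) DFunLike.coe_injective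
  obtain ⟨k, m, hm, hkm⟩ := Nat.exists_eq_two_pow_mul_odd (orderOf_pos α).ne'
  refine ⟨k, odd_trivial h hm ?_⟩
  rw [← pow_mul, ← hkm, pow_orderOf_eq_one]

end main

end Cfsg.Agent.H809.GT
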