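import Cfsg.Agent.H809.GT.Ga2

/-!
# S5211, `q = 2`: `StGa2` (helper809)
-/

set_option autoImplicit false

namespace Cfsg.Agent.H809.GT

open Cfsg Cfsg.Agent.H779.G2 Cfsg.Agent.H756.PU Cfsg.Agent.H103.GT

universe u

variable {K : Type u} [Field K]

/-! ### matrices -/

/-- the code of a matrix -/
noncomputable def cM (M : Matrix (Fin 4) (Fin 4) K) : Cod :=
  (bt (M 0 0) + 2 * bt (M 1 0) + 4 * bt (M 2 0) + 8 * bt (M 3 0), bt (M 0 1) + 2 * bt (M 1 1) + 4 * bt (M 2 1) + 8 * bt (M 3 1),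
    bt (M 0 2) + 2 * bt (M 1 2) + 4 * bt (M 2 2) + 8 * bt (M 3 2), bt (M 0 3) + 2 * bt (M 1 3) + 4 * bt (M 2 3) + 8 * bt (M 3 3))

theorem bits_inj {a b c d a' b' c' d' : K} (h : HypG K 2 1)
    (e : bt a + 2 * bt b + 4 * bt c + 8 * bt d = bt a' + 2 * bt b' + 4 * bt c' + 8 * bt d') :
    a = a' ∧ b = b' ∧ c = c' ∧ d = d' := by
  have h1 := bt_lt a
  have h2 := bt_lt b
  have h3 := bt_lt c
  have h4 := bt_lt d
  have k1 := bt_lt a'
  have k2 := bt_lt b'
  have k3 := bt_lt c'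
  have k4 := bt_lt d'
  exact ⟨bt_inj h (by omega), bt_inj h (by omega), bt_inj h (by omega), bt_inj h (by omega)⟩

/-- the matrix of an automorphism -/
noncomputable def matA (γ : MulAut (Qa K)) : Matrix (Fin 4) (Fin 4) K :=
  !![((γ (X2 1) : Qa K) : GU K).b, ((γ (X3 1) : Qa K) : GU K).b, ((γ (X4 1) : Qa K) : GU K).b, ((γ (X5 1) : Qa K) : GU K).b;
    ((γ (X2 1) : Qa K) : GU K).c, ((γ (X3 1) : Qa K) : GU K).c, ((γ (X4 1) : Qa K) : GU K).c, ((γ (X5 1) : Qa K) : GU K).c;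
    ((γ (X2 1) : Qa K) : GU K).d, ((γ (X3 1) : Qa K) : GU K).d, ((γ (X4 1) : Qa K) : GU K).d, ((γ (X5 1) : Qa K) : GU K).d;
    ((γ (X2 1) : Qa K) : GU K).e, ((γ (X3 1) : Qa K) : GU K).e, ((γ (X4 1) : Qa K) : GU K).e, ((γ (X5 1) : Qa K) : GU K).e]

theorem cM_matA (γ : MulAut (Qa K)) : cM (matA γ) = co γ := rfl

theorem lin_coord (h : HypG K 2 1) (γ : MulAut (Qa K)) (φ : GU K → K) (h1 : φ 1 = 0)
    (hm : ∀ x y : GU K, y.a = 0 → φ (x * y) = φ x + φ y) (h6 : ∀ z ∈ Z1 K, φ z = 0) (g : Qa K) :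
    φ (γ g : Qa K) = φ (γ (X2 1) : Qa K) * (g : GU K).b + φ (γ (X3 1) : Qa K) * (g : GU K).c +
      φ (γ (X4 1) : Qa K) * (g : GU K).d + φ (γ (X5 1) : Qa K) * (g : GU K).e := by
  obtain ⟨o2, o3, o4, o5, o6⟩ := one_of_zero (K := K)
  have hm' : ∀ x y : Qa K, φ ((x * y : Qa K) : GU K) = φ (x : GU K) + φ (y : GU K) := fun x y => hm x y y.2
  have k2 : ∀ t : K, φ (γ (X2 t) : Qa K) = φ (γ (X2 1) : Qa K) * t := by
    intro t
    rcases two_elts h t with rfl | rfl
    · rw [o2, map_one, mul_zero]; exact h1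
    · rw [mul_one]
  have k3 : ∀ t : K, φ (γ (X3 t) : Qa K) = φ (γ (X3 1) : Qa K) * t := by
    intro t
    rcases two_elts h t with rfl | rfl
    · rw [o3, map_one, mul_zero]; exact h1
    · rw [mul_one]
  have k4 : ∀ t : K, φ (γ (X4 t) : Qa K) = φ (γ (X4 1) : Qa K) * t := by
    intro t
    rcases two_elts h t with rfl | rfl
    · rw [o4, map_one, mul_zero]; exact h1
    · rw [mul_one]
  have k5 : ∀ t : K, φ (γ (X5 t) : Qa K) = φ (γ (X5 1) : Qa K) * t := by
    intro t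
    rcases two_elts h t with rfl | rfl
    · rw [o5, map_one, mul_zero]; exact h1
    · rw [mul_one]
  have k6 : ∀ t : K, φ (γ (X6 t) : Qa K) = 0 := fun t => h6 _ (aut_Z1 h γ (x6_mem t))
  conv_lhs => rw [dec_Qa g, map_mul, map_mul, map_mul, map_mul, hm', hm', hm', hm', k2, k3, k4, k5, k6]
  rw [add_zero]

theorem linA_matA (h : HypG K 2 1) (γ : MulAut (Qa K)) : LinA (matA γ) γ := by
  intro g
  have hb := lin_coord h γ GU.b rfl (fun x y _ => GU.mul_b x y) (fun z hz => hz.2.1) g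
  have hc := lin_coord h γ GU.c rfl (fun x y hy => by rw [GU.mul_c, hy, mul_zero, add_zero]) (fun z hz => hz.2.2.1) g
  have hd := lin_coord h γ GU.d rfl (fun x y hy => by rw [GU.mul_d, hy]; ring) (fun z hz => hz.2.2.2.1) g
  have he := lin_coord h γ GU.e rfl (fun x y hy => by rw [GU.mul_e, hy]; ring) (fun z hz => hz.2.2.2.2) g
  funext i
  fin_cases i
  · simp [Matrix.mulVec, dotProduct, Fin.sum_univ_four, matA, hb]
  · simp [Matrix.mulVec, dotProduct, Fin.sum_univ_four, matA, hc]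
  · simp [Matrix.mulVec, dotProduct, Fin.sum_univ_four, matA, hd]
  · simp [Matrix.mulVec, dotProduct, Fin.sum_univ_four, matA, he]

theorem eq_matA {M : Matrix (Fin 4) (Fin 4) K} {γ : MulAut (Qa K)} (hM : LinA M γ) : M = matA γ := by
  have h2 := hM (X2 1)
  have h3 := hM (X3 1)
  have h4 := hM (X4 1)
  have h5 := hM (X5 1)
  have e2 : ∀ i, (M.mulVec ![((X2 (1 : K) : Qa K) : GU K).b, ((X2 (1 : K) : Qa K) : GU K).c, ((X2 (1 : K) : Qa K) : GU K).d,
      ((X2 (1 : K) : Qa K) : GU K).e]) i = M i 0 := by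
    intro i
    simp [Matrix.mulVec, dotProduct, Fin.sum_univ_four, X2, x2]
  have e3 : ∀ i, (M.mulVec ![((X3 (1 : K) : Qa K) : GU K).b, ((X3 (1 : K) : Qa K) : GU K).c, ((X3 (1 : K) : Qa K) : GU K).d,
      ((X3 (1 : K) : Qa K) : GU K).e]) i = M i 1 := by
    intro i
    simp [Matrix.mulVec, dotProduct, Fin.sum_univ_four, X3, x3]
  have e4 : ∀ i, (M.mulVec ![((X4 (1 : K) : Qa K) : GU K).b, ((X4 (1 : K) : Qa K) : GU K).c, ((X4 (1 : K) : Qa K) : GU K).d,
      ((X4 (1 : K) : Qa K) : GU K).e]) i = M i 2 := by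
    intro i
    simp [Matrix.mulVec, dotProduct, Fin.sum_univ_four, X4, x4]
  have e5 : ∀ i, (M.mulVec ![((X5 (1 : K) : Qa K) : GU K).b, ((X5 (1 : K) : Qa K) : GU K).c, ((X5 (1 : K) : Qa K) : GU K).d,
      ((X5 (1 : K) : Qa K) : GU K).e]) i = M i 3 := by
    intro i
    simp [Matrix.mulVec, dotProduct, Fin.sum_univ_four, X5, x5]
  ext i j
  have f2 := congrFun h2 i
  have f3 := congrFun h3 i
  have f4 := congrFun h4 i
  have f5 := congrFun h5 i
  rw [e2] at f2
  rw [e3] at f3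
  rw [e4] at f4
  rw [e5] at f5
  fin_cases j
  · change M i 0 = _
    rw [← f2]
    fin_cases i <;> rfl
  · change M i 1 = _
    rw [← f3]
    fin_cases i <;> rfl
  · change M i 2 = _
    rw [← f4]
    fin_cases i <;> rfl
  · change M i 3 = _
    rw [← f5]
    fin_cases i <;> rfl

theorem linA_iff (h : HypG K 2 1) {M : Matrix (Fin 4) (Fin 4) K} {γ : MulAut (Qa K)} : LinA M γ ↔ co γ = cM M := by
  constructor
  · intro hM
    rw [eq_matA hM, cM_matA]
  · intro hc
    rw [← cM_matA] at hc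
    have hM : M = matA γ := by
      have c0 := congrArg (fun m : Cod => m.1) hc
      have c1 := congrArg (fun m : Cod => m.2.1) hc
      have c2 := congrArg (fun m : Cod => m.2.2.1) hc
      have c3 := congrArg (fun m : Cod => m.2.2.2) hc
      obtain ⟨a0, a1, a2, a3⟩ := bits_inj h c0
      obtain ⟨b0, b1, b2, b3⟩ := bits_inj h c1
      obtain ⟨d0, d1, d2, d3⟩ := bits_inj h c2
      obtain ⟨g0, g1, g2, g3⟩ := bits_inj h c3
      ext i j
      fin_cases i <;> fin_cases j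
      · exact a0.symm
      · exact b0.symm
      · exact d0.symm
      · exact g0.symm
      · exact a1.symm
      · exact b1.symm
      · exact d1.symm
      · exact g1.symm
      · exact a2.symm
      · exact b2.symm
      · exact d2.symm
      · exact g2.symm
      · exact a3.symm
      · exact b3.symm
      · exact d3.symm
      · exact g3.symm
    rw [hM]
    exact linA_matA h γ

theorem cM_R1 : cM (R1m : Matrix (Fin 4) (Fin 4) K) = cr1 := by
  simp [cM, R1m, bt_zero, bt_one, cr1]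

theorem cM_R2 : cM (R2m : Matrix (Fin 4) (Fin 4) K) = cr2 := by
  simp [cM, R2m, bt_zero, bt_one, cr2]

theorem R12_eq : (R1m * R2m : Matrix (Fin 4) (Fin 4) K) = !![0, 0, 0, 1; 0, 0, 1, 1; 0, 1, 0, 1; 1, 1, 1, 1] := by
  ext i j
  fin_cases i <;> fin_cases j <;> simp [R1m, R2m, Matrix.mul_apply, Fin.sum_univ_four]

theorem R122_eq (h : HypG K 2 1) : (R1m * R2m * R2m : Matrix (Fin 4) (Fin 4) K) =
    !![0, 1, 0, 1; 1, 1, 1, 1; 0, 1, 0, 0; 1, 1, 0, 0] := by
  have h11 : (1 : K) + 1 = 0 := by linear_combination two_zero h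
  rw [R12_eq]
  ext i j
  fin_cases i <;> fin_cases j <;> simp [R2m, Matrix.mul_apply, Fin.sum_univ_four, h11]

theorem cM_R12 : cM (R1m * R2m : Matrix (Fin 4) (Fin 4) K) = cr12 := by
  rw [R12_eq]
  simp [cM, bt_zero, bt_one, cr12]

theorem cM_R122 (h : HypG K 2 1) : cM (R1m * R2m * R2m : Matrix (Fin 4) (Fin 4) K) = cr122 := by
  rw [R122_eq h]
  simp [cM, bt_zero, bt_one, cr122]

/-! ### subgroups and their codes -/

/-- the code `m` occurs in `H` -/
def Oc (H : Subgroup (MulAut (Qa K))) (m : Cod) : Prop := ∃ γ ∈ H, co γ = m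

theorem Oc.cmp (h : HypG K 2 1) {H : Subgroup (MulAut (Qa K))} {m n : Cod} (hm : Oc H m) (hn : Oc H n) :
    Oc H (cmp m n) := by
  obtain ⟨γ, hγ, rfl⟩ := hm
  obtain ⟨δ, hδ, rfl⟩ := hn
  exact ⟨γ * δ, H.mul_mem hγ hδ, co_mul h γ δ⟩

theorem mem_of_oc (h : HypG K 2 1) {H : Subgroup (MulAut (Qa K))} (hH : autInducedBy ⊤ (Qa K) ≤ H) {γ : MulAut (Qa K)}
    (hm : Oc H (co γ)) : γ ∈ H := by
  obtain ⟨δ, hδ, he⟩ := hm
  have h1 := hH (co_eq_mem h he.symm)
  have h2 := H.mul_mem hδ h1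
  rwa [mul_inv_cancel_left] at h2

theorem le_of_oc (h : HypG K 2 1) {H H' : Subgroup (MulAut (Qa K))} (hH : autInducedBy ⊤ (Qa K) ≤ H)
    (hm : ∀ m, Oc H' m → Oc H m) : H' ≤ H := fun γ hγ => mem_of_oc h hH (hm _ ⟨γ, hγ, rfl⟩)

theorem genR_le (h : HypG K 2 1) {X : Set (Matrix (Fin 4) (Fin 4) K)} {H : Subgroup (MulAut (Qa K))}
    (hH : autInducedBy ⊤ (Qa K) ≤ H) (hX : ∀ M ∈ X, Oc H (cM M)) : GenR X ≤ H := by
  rw [GenR, Subgroup.closure_le]
  rintro γ (hγ | ⟨M, hM, hL⟩)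
  · exact hH hγ
  · apply mem_of_oc h hH
    rw [(linA_iff h).1 hL]
    exact hX M hM

theorem aut_le_genR (X : Set (Matrix (Fin 4) (Fin 4) K)) : autInducedBy ⊤ (Qa K) ≤ GenR X := fun _ hx =>
  Subgroup.subset_closure (Or.inl hx)

theorem oc_genR (h : HypG K 2 1) {X : Set (Matrix (Fin 4) (Fin 4) K)} {M : Matrix (Fin 4) (Fin 4) K} (hM : M ∈ X)
    {H : Subgroup (MulAut (Qa K))} (hO : Oc H (cM M)) : Oc (GenR X) (cM M) := by
  obtain ⟨γ, -, hγ⟩ := hO
  exact ⟨γ, Subgroup.subset_closure (Or.inr ⟨M, hM, (linA_iff h).2 hγ⟩), hγ⟩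

theorem oc_c1 {H : Subgroup (MulAut (Qa K))} : Oc H c1 := ⟨1, H.one_mem, co_one⟩

theorem oc_ct (h : HypG K 2 1) {H : Subgroup (MulAut (Qa K))} (hH : autInducedBy ⊤ (Qa K) ≤ H) : Oc H ct := by
  obtain ⟨τ, hτ, h1⟩ := exists_ct h
  exact ⟨τ, hH hτ, h1⟩

/-- the codes generated by `r` and `ct` -/
def Lr (r : Cod) : List Cod := [c1, r, cmp r r, ct, cmp r ct, cmp (cmp r r) ct]

theorem oc_Lr (h : HypG K 2 1) {H : Subgroup (MulAut (Qa K))} (hH : autInducedBy ⊤ (Qa K) ≤ H) {r : Cod} (hr : Oc H r)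
    {m : Cod} (hm : m ∈ Lr r) : Oc H m := by
  have ht := oc_ct h hH
  have h2 := Oc.cmp h hr hr
  simp only [Lr, List.mem_cons, List.not_mem_nil, or_false] at hm
  rcases hm with rfl | rfl | rfl | rfl | rfl | rfl
  · exact oc_c1
  · exact hr
  · exact h2
  · exact ht
  · exact Oc.cmp h hr ht
  · exact Oc.cmp h h2 ht

/-- a derived code is `b` -/
def der (m b : Cod) : Bool :=
  beqC m b || (beqC (cmp m m) b || (beqC (cmp m ct) b || beqC (cmp (cmp m ct) (cmp m ct)) b))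

theorem der_oc (h : HypG K 2 1) {H : Subgroup (MulAut (Qa K))} (hH : autInducedBy ⊤ (Qa K) ≤ H) {m b : Cod}
    (hm : Oc H m) (hd : der m b = true) : Oc H b := by
  have ht := oc_ct h hH
  have h2 := Oc.cmp h hm ht
  simp only [der, Bool.or_eq_true, beqC_iff] at hd
  rcases hd with rfl | rfl | rfl | rfl
  · exact hm
  · exact Oc.cmp h hm hm
  · exact h2
  · exact Oc.cmp h h2 h2

theorem tst_one : (((LN ++ LNt).all fun m => memC m (Lr cr1) || (der m cr2 || (der m cr12 || der m cr122))) &&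
    (((LN ++ LNt).all fun m => memC m (Lr cr2) || (der m cr1 || (der m cr12 || der m cr122))) &&
    (((LN ++ LNt).all fun m => memC m (Lr cr12) || (der m cr1 || (der m cr2 || der m cr122))) &&
    (((LN ++ LNt).all fun m => memC m (Lr cr122) || (der m cr1 || (der m cr2 || der m cr12))) &&
    ((LN ++ LNt).all fun m => memC m [c1, ct] || (der m cr1 || (der m cr2 || (der m cr12 || der m cr122)))))))) = true := by
  decide +kernel

/-- all the codes in terms of the generators -/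
def words : List Cod :=
  [c1, cr1, cmp cr1 cr1].flatMap fun a => [c1, cr2, cmp cr2 cr2].flatMap fun b => [c1, ct].map fun c => cmp (cmp a b) c

theorem tst_words : ((LN ++ LNt).all fun m => memC m words) = true := by decide +kernel

theorem oc_words (h : HypG K 2 1) {H : Subgroup (MulAut (Qa K))} (hH : autInducedBy ⊤ (Qa K) ≤ H) (h1 : Oc H cr1)
    (h2 : Oc H cr2) {m : Cod} (hm : m ∈ LN ++ LNt) : Oc H m := by
  have hw := tst_words
  rw [List.all_eq_true] at hw
  have h3 := memC_iff.1 (hw m hm)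
  simp only [words, List.mem_flatMap, List.mem_map] at h3
  obtain ⟨a, ha, b, hb, c, hc, rfl⟩ := h3
  refine Oc.cmp h (Oc.cmp h ?_ ?_) ?_
  · simp only [List.mem_cons, List.not_mem_nil, or_false] at ha
    rcases ha with rfl | rfl | rfl
    · exact oc_c1
    · exact h1
    · exact Oc.cmp h h1 h1
  · simp only [List.mem_cons, List.not_mem_nil, or_false] at hb
    rcases hb with rfl | rfl | rfl
    · exact oc_c1
    · exact h2
    · exact Oc.cmp h h2 h2
  · simp only [List.mem_cons, List.not_mem_nil, or_false] at hc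
    rcases hc with rfl | rfl
    · exact oc_c1
    · exact oc_ct h hH

/-! ### the codes of `Γ` -/

theorem co_pow (h : HypG K 2 1) (γ : MulAut (Qa K)) : co (γ ^ 3) = cube (co γ) := by
  rw [pow_succ, pow_two, co_mul h, co_mul h]
  rfl

theorem mem_of_par (h : HypG K 2 1) {Γ : Subgroup (MulAut (Qa K))} (hΓ : Par2 Γ) {γ : MulAut (Qa K)} (hγ : γ ∈ Γ) :
    co γ ∈ LN ++ LNt := by
  have := h.fin
  -- `γ ^ 3` is a `2`-element
  have h12 : co ((γ ^ 3) ^ 4) = c1 := by
    rw [show (γ ^ 3) ^ 4 = (γ ^ 3 * γ ^ 3) * (γ ^ 3 * γ ^ 3) by group, co_mul h, co_mul h, co_pow h]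
    exact pow_twelve (co_mem_OL h γ)
  obtain ⟨w, hw⟩ := inner_of_co h h12
  have hord : (γ ^ 3) ^ 2 ^ 8 = 1 := by
    rw [show (2 : ℕ) ^ 8 = 4 * 64 by norm_num, pow_mul, hw, ← map_pow]
    have e2 : w ^ 64 = 1 := Subtype.ext (pow_64 h (w : GU K))
    rw [e2, map_one]
  have hP : IsPGroup 2 (Subgroup.zpowers (γ ^ 3)) := by
    rintro ⟨x, hx⟩
    obtain ⟨k, rfl⟩ := Subgroup.mem_zpowers_iff.1 hx
    refine ⟨8, Subtype.ext ?_⟩
    change ((γ ^ 3) ^ k) ^ 2 ^ 8 = 1
    rw [← zpow_natCast, ← zpow_mul, mul_comm, zpow_mul, zpow_natCast, hord, one_zpow]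
  obtain ⟨g, hg, hc⟩ := hΓ.syl (Subgroup.zpowers (γ ^ 3)) (by
    rw [Subgroup.zpowers_le]
    exact Γ.pow_mem hγ 3) hP
  have h1 := hc (γ ^ 3) (Subgroup.mem_zpowers _)
  have h2 : γ ^ 3 * g⁻¹ = g⁻¹ * (g * γ ^ 3 * g⁻¹) := by group
  have h3 := congrArg co h2
  rw [co_mul h, co_mul h g⁻¹ (g * γ ^ 3 * g⁻¹)] at h3
  have h4 : co (γ ^ 3) = c1 ∨ co (γ ^ 3) ∈ LNt := by
    rcases co_aut h h1 with h5 | h5
    · left
      rw [h5] at h3
      exact conj_c1 (co_mem_OL h _) (co_mem_OL h _) h3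
    · right
      rw [h5] at h3
      exact conj_ct (co_mem_OL h _) (co_mem_OL h _) h3
  rw [co_pow h] at h4
  exact List.mem_append.2 (mem_of_cube (co_mem_OL h γ) h4)

theorem stGa2 : StGa2.{u} := by
  intro K _ h Γ hΓ
  have hle := hΓ.indu
  have hL : ∀ m, Oc Γ m → m ∈ LN ++ LNt := by
    rintro m ⟨γ, hγ, rfl⟩
    exact mem_of_par h hΓ hγ
  have htst := tst_one
  simp only [Bool.and_eq_true, List.all_eq_true, Bool.or_eq_true] at htst
  obtain ⟨t1, t2, t12, t122, t0⟩ := htst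
  -- the case `{r}`
  have single : ∀ (M : Matrix (Fin 4) (Fin 4) K), Oc Γ (cM M) → (∀ m, Oc Γ m → m ∈ Lr (cM M)) → Γ = GenR {M} := by
    intro M hO hall
    refine le_antisymm ?_ (genR_le h hle fun M' hM' => ?_)
    · refine le_of_oc h (aut_le_genR _) fun m hm => ?_
      exact oc_Lr h (aut_le_genR _) (oc_genR h (Set.mem_singleton M) hO) (hall m hm)
    · rw [Set.mem_singleton_iff.1 hM']
      exact hO
  have full : Oc Γ cr1 → Oc Γ cr2 → Γ = GenR {R1m, R2m} := by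
    intro o1 o2
    refine le_antisymm ?_ (genR_le h hle fun M' hM' => ?_)
    · refine le_of_oc h (aut_le_genR _) fun m hm => ?_
      refine oc_words h (aut_le_genR _) ?_ ?_ (hL m hm)
      · rw [← cM_R1 (K := K)]
        exact oc_genR h (Set.mem_insert _ _) (by rw [cM_R1]; exact o1)
      · rw [← cM_R2 (K := K)]
        exact oc_genR h (Set.mem_insert_of_mem _ (Set.mem_singleton _)) (by rw [cM_R2]; exact o2)
    · rcases hM' with rfl | hM'
      · rw [cM_R1]; exact o1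
      · rw [Set.mem_singleton_iff.1 hM', cM_R2]; exact o2
  by_cases o1 : Oc Γ cr1
  · by_cases o2 : Oc Γ cr2
    · exact Or.inr (Or.inr (Or.inr (Or.inr (full o1 o2))))
    by_cases o12 : Oc Γ cr12
    · refine absurd ?_ o2
      have := Oc.cmp h (Oc.cmp h o1 o1) o12
      exact this
    by_cases o122 : Oc Γ cr122
    · refine absurd ?_ o2
      have h5 := Oc.cmp h (Oc.cmp h o1 o1) o122
      have := Oc.cmp h h5 h5
      exact this
    refine Or.inl (single R1m (by rw [cM_R1]; exact o1) fun m hm => ?_)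
    rw [cM_R1]
    rcases t1 m (hL m hm) with h6 | h6 | h6 | h6
    · exact memC_iff.1 h6
    · exact absurd (der_oc h hle hm h6) o2
    · exact absurd (der_oc h hle hm h6) o12
    · exact absurd (der_oc h hle hm h6) o122
  by_cases o2 : Oc Γ cr2
  · by_cases o12 : Oc Γ cr12
    · refine absurd ?_ o1
      have := Oc.cmp h (Oc.cmp h o2 o2) o12
      exact this
    by_cases o122 : Oc Γ cr122
    · refine absurd ?_ o1
      have := Oc.cmp h o2 o122
      exact this
    refine Or.inr (Or.inl (single R2m (by rw [cM_R2]; exact o2) fun m hm => ?_))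
    rw [cM_R2]
    rcases t2 m (hL m hm) with h6 | h6 | h6 | h6
    · exact memC_iff.1 h6
    · exact absurd (der_oc h hle hm h6) o1
    · exact absurd (der_oc h hle hm h6) o12
    · exact absurd (der_oc h hle hm h6) o122
  by_cases o12 : Oc Γ cr12
  · by_cases o122 : Oc Γ cr122
    · refine absurd ?_ o1
      have h5 := Oc.cmp h o12 o122
      have := Oc.cmp h h5 h5
      exact this
    refine Or.inr (Or.inr (Or.inl (single (R1m * R2m) (by rw [cM_R12]; exact o12) fun m hm => ?_)))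
    rw [cM_R12]
    rcases t12 m (hL m hm) with h6 | h6 | h6 | h6
    · exact memC_iff.1 h6
    · exact absurd (der_oc h hle hm h6) o1
    · exact absurd (der_oc h hle hm h6) o2
    · exact absurd (der_oc h hle hm h6) o122
  by_cases o122 : Oc Γ cr122
  · refine Or.inr (Or.inr (Or.inr (Or.inl (single (R1m * R2m * R2m) (by rw [cM_R122 h]; exact o122) fun m hm => ?_))))
    rw [cM_R122 h]
    rcases t122 m (hL m hm) with h6 | h6 | h6 | h6
    · exact memC_iff.1 h6
    · exact absurd (der_oc h hle hm h6) o1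
    · exact absurd (der_oc h hle hm h6) o2
    · exact absurd (der_oc h hle hm h6) o12
  · -- `Γ = Aut_S(Q_a)`
    exfalso
    apply hΓ.nn
    intro γ hγ
    have h7 : γ ∈ autInducedBy ⊤ (Qa K) := by
      apply mem_of_oc h le_rfl
      rcases t0 (co γ) (hL _ ⟨γ, hγ, rfl⟩) with h6 | h6 | h6 | h6 | h6
      · have h8 := memC_iff.1 h6
        simp only [List.mem_cons, List.not_mem_nil, or_false] at h8
        rcases h8 with h8 | h8
        · rw [h8]; exact oc_c1
        · rw [h8]; exact oc_ct h le_rfl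
      · exact absurd (der_oc h hle ⟨γ, hγ, rfl⟩ h6) o1
      · exact absurd (der_oc h hle ⟨γ, hγ, rfl⟩ h6) o2
      · exact absurd (der_oc h hle ⟨γ, hγ, rfl⟩ h6) o12
      · exact absurd (der_oc h hle ⟨γ, hγ, rfl⟩ h6) o122
    intro x hx
    exact Subgroup.mul_mem _ (Subgroup.mul_mem _ h7 hx) (Subgroup.inv_mem _ h7)

end Cfsg.Agent.H809.GT
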