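import Cfsg.Agent.H809.GT.Aut2
import Cfsg.Agent.H802.FusBasic

/-!
# S5211, `q = 2`: codes of the automorphisms of `Q_a` (helper809)

An automorphism `γ` of `Q_a` is encoded by the codes (`b + 2 c + 4 d + 8 e`) of the images of the four generators
(`co γ`); there are `72` codes (`OL`).
-/

set_option autoImplicit false

namespace Cfsg.Agent.H809.GT

open Cfsg Cfsg.Agent.H779.G2 Cfsg.Agent.H756.PU Cfsg.Agent.H103.GT
open Cfsg.Agent.H294.G2 (Ch ch_Z1)

universe u

/-! ### codes -/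

/-- codes of linear maps -/
abbrev Cod := ℕ × ℕ × ℕ × ℕ

/-- the linear map with code `m` applied to the vector with code `v` -/
def app (m : Cod) (v : ℕ) : ℕ :=
  ((v % 2) * m.1) ^^^ ((v / 2 % 2) * m.2.1) ^^^ ((v / 4 % 2) * m.2.2.1) ^^^ ((v / 8 % 2) * m.2.2.2)

/-- composition -/
def cmp (m n : Cod) : Cod := (app m n.1, app m n.2.1, app m n.2.2.1, app m n.2.2.2)

/-- the quadratic form -/
def qf (v : ℕ) : ℕ := ((v / 4 % 2) * (v / 2 % 2) + (v % 2) * (v / 8 % 2)) % 2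

/-- the identity -/
def c1 : Cod := (1, 2, 4, 8)
/-- the action of `x_α(1)` -/
def ct : Cod := (15, 10, 12, 8)
/-- `R1m` -/
def cr1 : Cod := (2, 3, 8, 12)
/-- `R2m` -/
def cr2 : Cod := (4, 8, 5, 10)
/-- `R1m * R2m` -/
def cr12 : Cod := (8, 12, 10, 15)
/-- `R1m * R2m * R2m` -/
def cr122 : Cod := (10, 15, 2, 3)

/-- the elementary abelian group of order `9` -/
def LN : List Cod := [(1, 2, 4, 8), (4, 8, 5, 10), (5, 10, 1, 2), (2, 3, 8, 12), (8, 12, 10, 15), (10, 15, 2, 3),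
  (3, 1, 12, 4), (12, 4, 15, 5), (15, 5, 3, 1)]
/-- the coset of `ct` -/
def LNt : List Cod := [(15, 10, 12, 8), (3, 2, 15, 10), (12, 8, 3, 2), (5, 15, 4, 12), (1, 3, 5, 15), (4, 12, 1, 3),
  (10, 5, 8, 4), (2, 1, 10, 5), (8, 4, 2, 1)]

/-- the codes of the orthogonal group `O₄⁺(2)` -/
def OL : List Cod := [
  (1, 2, 4, 8), (1, 2, 5, 10), (1, 3, 4, 12), (1, 3, 5, 15), (1, 4, 2, 8), (1, 4, 3, 12),
  (1, 5, 2, 10), (1, 5, 3, 15), (2, 1, 8, 4), (2, 1, 10, 5), (2, 3, 8, 12), (2, 3, 10, 15),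
  (2, 8, 1, 4), (2, 8, 3, 12), (2, 10, 1, 5), (2, 10, 3, 15), (3, 1, 12, 4), (3, 1, 15, 5),
  (3, 2, 12, 8), (3, 2, 15, 10), (3, 12, 1, 4), (3, 12, 2, 8), (3, 15, 1, 5), (3, 15, 2, 10),
  (4, 1, 8, 2), (4, 1, 12, 3), (4, 5, 8, 10), (4, 5, 12, 15), (4, 8, 1, 2), (4, 8, 5, 10),
  (4, 12, 1, 3), (4, 12, 5, 15), (5, 1, 10, 2), (5, 1, 15, 3), (5, 4, 10, 8), (5, 4, 15, 12),
  (5, 10, 1, 2), (5, 10, 4, 8), (5, 15, 1, 3), (5, 15, 4, 12), (8, 2, 4, 1), (8, 2, 12, 3),
  (8, 4, 2, 1), (8, 4, 10, 5), (8, 10, 4, 5), (8, 10, 12, 15), (8, 12, 2, 3), (8, 12, 10, 15),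
  (10, 2, 5, 1), (10, 2, 15, 3), (10, 5, 2, 1), (10, 5, 8, 4), (10, 8, 5, 4), (10, 8, 15, 12),
  (10, 15, 2, 3), (10, 15, 8, 12), (12, 3, 4, 1), (12, 3, 8, 2), (12, 4, 3, 1), (12, 4, 15, 5),
  (12, 8, 3, 2), (12, 8, 15, 10), (12, 15, 4, 5), (12, 15, 8, 10), (15, 3, 5, 1), (15, 3, 10, 2),
  (15, 5, 3, 1), (15, 5, 12, 4), (15, 10, 3, 2), (15, 10, 12, 8), (15, 12, 5, 4), (15, 12, 10, 8)]

/-- equality of codes -/
def beqC (m n : Cod) : Bool := m.1 == n.1 && (m.2.1 == n.2.1 && (m.2.2.1 == n.2.2.1 && m.2.2.2 == n.2.2.2))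

theorem beqC_iff {m n : Cod} : beqC m n = true ↔ m = n := by
  obtain ⟨a, b, c, d⟩ := m
  obtain ⟨a', b', c', d'⟩ := n
  simp [beqC]

/-- membership in a list of codes -/
def memC (m : Cod) (l : List Cod) : Bool := l.any (beqC m)

theorem memC_iff {m : Cod} {l : List Cod} : memC m l = true ↔ m ∈ l := by
  simp [memC, List.any_eq_true, beqC_iff]

/-- the test for the orthogonal group -/
def tstO : Bool :=
  (List.range 16).all fun a => !(qf a == 0) ||
    (List.range 16).all fun b => !(qf b == 0 && qf (a ^^^ b) == 0) ||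
      (List.range 16).all fun c => !(qf c == 0 && (qf (a ^^^ c) == 0 && qf (b ^^^ c) == 1)) ||
        (List.range 16).all fun d => !(qf d == 0 && (qf (a ^^^ d) == 1 && (qf (b ^^^ d) == 0 && qf (c ^^^ d) == 0))) ||
          memC (a, b, c, d) OL

theorem tstO_eq : tstO = true := by decide +kernel

theorem mem_OL {m : Cod} (h1 : m.1 < 16) (h2 : m.2.1 < 16) (h3 : m.2.2.1 < 16) (h4 : m.2.2.2 < 16)
    (h : ∀ v < 16, qf (app m v) = qf v) : m ∈ OL := by
  obtain ⟨a, b, c, d⟩ := m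
  simp only at h1 h2 h3 h4
  have e1 := h 1 (by norm_num)
  have e2 := h 2 (by norm_num)
  have e4 := h 4 (by norm_num)
  have e8 := h 8 (by norm_num)
  have e3 := h 3 (by norm_num)
  have e5 := h 5 (by norm_num)
  have e9 := h 9 (by norm_num)
  have e6 := h 6 (by norm_num)
  have e10 := h 10 (by norm_num)
  have e12 := h 12 (by norm_num)
  simp [app] at e1 e2 e4 e8 e3 e5 e9 e6 e10 e12
  have hq1 : qf 1 = 0 := rfl
  have hq2 : qf 2 = 0 := rfl
  have hq4 : qf 4 = 0 := rfl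
  have hq8 : qf 8 = 0 := rfl
  have hq3 : qf 3 = 0 := rfl
  have hq5 : qf 5 = 0 := rfl
  have hq9 : qf 9 = 1 := rfl
  have hq6 : qf 6 = 1 := rfl
  have hq10 : qf 10 = 0 := rfl
  have hq12 : qf 12 = 0 := rfl
  rw [hq1] at e1
  rw [hq2] at e2
  rw [hq4] at e4
  rw [hq8] at e8
  rw [hq3] at e3
  rw [hq5] at e5
  rw [hq9] at e9
  rw [hq6] at e6
  rw [hq10] at e10
  rw [hq12] at e12
  have key := tstO_eq
  unfold tstO at key
  rw [List.all_eq_true] at key
  have k1 := key a (List.mem_range.2 h1)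
  simp only [e1, beq_self_eq_true, Bool.not_true, Bool.false_or] at k1
  rw [List.all_eq_true] at k1
  have k2 := k1 b (List.mem_range.2 h2)
  simp only [e2, e3, beq_self_eq_true, Bool.and_self, Bool.not_true, Bool.false_or] at k2
  rw [List.all_eq_true] at k2
  have k3 := k2 c (List.mem_range.2 h3)
  simp only [e4, e5, e6, beq_self_eq_true, Bool.and_self, Bool.not_true, Bool.false_or] at k3
  rw [List.all_eq_true] at k3
  have k4 := k3 d (List.mem_range.2 h4)
  simp only [e8, e9, e10, e12, beq_self_eq_true, Bool.and_self, Bool.not_true, Bool.false_or] at k4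
  exact memC_iff.1 k4

/-- the cube -/
def cube (m : Cod) : Cod := cmp (cmp m m) m

/-- the first test -/
def tst1 : Bool := OL.all fun m => !(memC (cube m) (c1 :: LNt)) || memC m (LN ++ LNt)

theorem tst1_eq : tst1 = true := by decide +kernel

theorem mem_of_cube {m : Cod} (hm : m ∈ OL) (h : cube m = c1 ∨ cube m ∈ LNt) : m ∈ LN ∨ m ∈ LNt := by
  have key := tst1_eq
  unfold tst1 at key
  rw [List.all_eq_true] at key
  have k1 := key m hm
  have k2 : memC (cube m) (c1 :: LNt) = true := memC_iff.2 (by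
    rcases h with h | h
    · rw [h]; exact List.mem_cons_self
    · exact List.mem_cons_of_mem _ h)
  simp only [k2, Bool.not_true, Bool.false_or] at k1
  exact List.mem_append.1 (memC_iff.1 k1)

/-- the second test -/
def tst2 : Bool := OL.all fun g => OL.all fun m =>
  (!(beqC (cmp m g) (cmp g ct)) || memC m LNt) && (!(beqC (cmp m g) (cmp g c1)) || beqC m c1)

theorem tst2_eq : tst2 = true := by decide +kernel

theorem conj_ct {g m : Cod} (hg : g ∈ OL) (hm : m ∈ OL) (h : cmp m g = cmp g ct) : m ∈ LNt := by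
  have key := tst2_eq
  unfold tst2 at key
  rw [List.all_eq_true] at key
  have k1 := key g hg
  rw [List.all_eq_true] at k1
  have k2 := k1 m hm
  rw [Bool.and_eq_true] at k2
  have k3 := k2.1
  rw [beqC_iff.2 h] at k3
  simp only [Bool.not_true, Bool.false_or] at k3
  exact memC_iff.1 k3

theorem conj_c1 {g m : Cod} (hg : g ∈ OL) (hm : m ∈ OL) (h : cmp m g = cmp g c1) : m = c1 := by
  have key := tst2_eq
  unfold tst2 at key
  rw [List.all_eq_true] at key
  have k1 := key g hg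
  rw [List.all_eq_true] at k1
  have k2 := k1 m hm
  rw [Bool.and_eq_true] at k2
  have k3 := k2.2
  rw [beqC_iff.2 h] at k3
  simp only [Bool.not_true, Bool.false_or] at k3
  exact beqC_iff.1 k3

/-- the twelfth power -/
def tst3 : Bool := OL.all fun m => beqC (cmp (cmp (cube m) (cube m)) (cmp (cube m) (cube m))) c1

theorem tst3_eq : tst3 = true := by decide +kernel

theorem pow_twelve {m : Cod} (hm : m ∈ OL) : cmp (cmp (cube m) (cube m)) (cmp (cube m) (cube m)) = c1 := by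
  have key := tst3_eq
  unfold tst3 at key
  rw [List.all_eq_true] at key
  exact beqC_iff.1 (key m hm)

end Cfsg.Agent.H809.GT
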