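import Cfsg.Agent.H809.GT.Code

/-!
# S5211, `q = 2`: the five possibilities for `Aut_F(Q_a)` (helper809)
-/

set_option autoImplicit false

namespace Cfsg.Agent.H809.GT

open Cfsg Cfsg.Agent.H779.G2 Cfsg.Agent.H756.PU Cfsg.Agent.H103.GT
open Cfsg.Agent.H294.G2 (Ch ch_Z1)

universe u

variable {K : Type u} [Field K]

/-! ### bits and codes of elements -/

open Classical in
/-- the bit of an element of `K` -/
noncomputable def bt (x : K) : ℕ := if x = 0 then 0 else 1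

theorem bt_zero : bt (0 : K) = 0 := if_pos rfl
theorem bt_one : bt (1 : K) = 1 := if_neg one_ne_zero

theorem bt_lt (x : K) : bt x < 2 := by
  unfold bt
  split_ifs <;> norm_num

theorem bt_inj (h : HypG K 2 1) {x y : K} (hxy : bt x = bt y) : x = y := by
  rcases two_elts h x with rfl | rfl <;> rcases two_elts h y with rfl | rfl
  · rfl
  · rw [bt_zero, bt_one] at hxy; omega
  · rw [bt_zero, bt_one] at hxy; omega
  · rfl

theorem bt_add (h : HypG K 2 1) (x y : K) : bt (x + y) = bt x ^^^ bt y := by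
  have h2 := two_zero h
  have h11 : (1 : K) + 1 = 0 := by linear_combination h2
  rcases two_elts h x with rfl | rfl <;> rcases two_elts h y with rfl | rfl
  · rw [add_zero, bt_zero]; rfl
  · rw [zero_add, bt_zero, bt_one]; rfl
  · rw [add_zero, bt_zero, bt_one]; rfl
  · rw [h11, bt_zero, bt_one]; rfl

/-- the code of an element modulo `Z₁` -/
noncomputable def cd (g : GU K) : ℕ := bt g.b + 2 * bt g.c + 4 * bt g.d + 8 * bt g.e

theorem xor_fin : ∀ a b c d a' b' c' d' : Fin 2,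
    ((a : ℕ) ^^^ (a' : ℕ)) + 2 * ((b : ℕ) ^^^ (b' : ℕ)) + 4 * ((c : ℕ) ^^^ (c' : ℕ)) + 8 * ((d : ℕ) ^^^ (d' : ℕ)) =
      ((a : ℕ) + 2 * (b : ℕ) + 4 * (c : ℕ) + 8 * (d : ℕ)) ^^^ ((a' : ℕ) + 2 * (b' : ℕ) + 4 * (c' : ℕ) + 8 * (d' : ℕ)) := by
  decide +kernel

theorem xor_aux (a : ℕ) (ha : a < 2) (b : ℕ) (hb : b < 2) (c : ℕ) (hc : c < 2) (d : ℕ) (hd : d < 2)
    (a' : ℕ) (ha' : a' < 2) (b' : ℕ) (hb' : b' < 2) (c' : ℕ) (hc' : c' < 2) (d' : ℕ) (hd' : d' < 2) :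
    (a ^^^ a') + 2 * (b ^^^ b') + 4 * (c ^^^ c') + 8 * (d ^^^ d') =
      (a + 2 * b + 4 * c + 8 * d) ^^^ (a' + 2 * b' + 4 * c' + 8 * d') :=
  xor_fin ⟨a, ha⟩ ⟨b, hb⟩ ⟨c, hc⟩ ⟨d, hd⟩ ⟨a', ha'⟩ ⟨b', hb'⟩ ⟨c', hc'⟩ ⟨d', hd'⟩

theorem cd_mul (h : HypG K 2 1) {x y : GU K} (hy : y.a = 0) : cd (x * y) = cd x ^^^ cd y := by
  have eb : (x * y).b = x.b + y.b := GU.mul_b x y
  have ec : (x * y).c = x.c + y.c := by rw [GU.mul_c, hy, mul_zero, add_zero]
  have ed : (x * y).d = x.d + y.d := by rw [GU.mul_d, hy]; ring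
  have ee : (x * y).e = x.e + y.e := by rw [GU.mul_e, hy]; ring
  rw [cd, eb, ec, ed, ee, bt_add h, bt_add h, bt_add h, bt_add h]
  exact xor_aux _ (bt_lt _) _ (bt_lt _) _ (bt_lt _) _ (bt_lt _) _ (bt_lt _) _ (bt_lt _) _ (bt_lt _) _ (bt_lt _)

theorem cd_one : cd (1 : GU K) = 0 := by
  rw [cd, GU.one_b, GU.one_c, GU.one_d, GU.one_e, bt_zero]

theorem bits_aux (a : ℕ) (ha : a < 2) (b : ℕ) (hb : b < 2) (c : ℕ) (hc : c < 2) (d : ℕ) (hd : d < 2) :
    (a + 2 * b + 4 * c + 8 * d) % 2 = a ∧ (a + 2 * b + 4 * c + 8 * d) / 2 % 2 = b ∧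
    (a + 2 * b + 4 * c + 8 * d) / 4 % 2 = c ∧ (a + 2 * b + 4 * c + 8 * d) / 8 % 2 = d ∧
    a + 2 * b + 4 * c + 8 * d < 16 := by omega

theorem cd_bits (g : GU K) : cd g % 2 = bt g.b ∧ cd g / 2 % 2 = bt g.c ∧ cd g / 4 % 2 = bt g.d ∧
    cd g / 8 % 2 = bt g.e ∧ cd g < 16 :=
  bits_aux _ (bt_lt _) _ (bt_lt _) _ (bt_lt _) _ (bt_lt _)

theorem cd_inj (h : HypG K 2 1) {x y : GU K} (hxy : cd x = cd y) : x.b = y.b ∧ x.c = y.c ∧ x.d = y.d ∧ x.e = y.e := by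
  obtain ⟨h1, h2, h3, h4, -⟩ := cd_bits x
  obtain ⟨k1, k2, k3, k4, -⟩ := cd_bits y
  rw [hxy] at h1 h2 h3 h4
  exact ⟨bt_inj h (h1.symm.trans k1), bt_inj h (h2.symm.trans k2), bt_inj h (h3.symm.trans k3), bt_inj h (h4.symm.trans k4)⟩

/-! ### generators of `Q_a` -/

/-- `x_β(t)` in `Q_a` -/
def X2 (t : K) : Qa K := ⟨x2 t, rfl⟩
/-- `x_{α+β}(t)` in `Q_a` -/
def X3 (t : K) : Qa K := ⟨x3 t, rfl⟩
/-- `x_{2α+β}(t)` in `Q_a` -/
def X4 (t : K) : Qa K := ⟨x4 t, rfl⟩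
/-- `x_{3α+β}(t)` in `Q_a` -/
def X5 (t : K) : Qa K := ⟨x5 t, rfl⟩
/-- `x_{3α+2β}(t)` in `Q_a` -/
def X6 (t : K) : Qa K := ⟨x6 t, rfl⟩

theorem one_of_zero : X2 (0 : K) = 1 ∧ X3 (0 : K) = 1 ∧ X4 (0 : K) = 1 ∧ X5 (0 : K) = 1 ∧ X6 (0 : K) = 1 :=
  ⟨rfl, rfl, rfl, rfl, rfl⟩

theorem dec_Qa (g : Qa K) : g = X2 (g : GU K).b * X3 (g : GU K).c * X4 (g : GU K).d * X5 (g : GU K).e * X6 (g : GU K).f := by
  have hg : (g : GU K).a = 0 := g.2
  have h1 := decomp (g : GU K)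
  rw [hg] at h1
  have h2 : x1 (0 : K) = 1 := rfl
  rw [h2, one_mul] at h1
  exact Subtype.ext h1

theorem X6_eq : X6 (1 : K) = X2 1 * X5 1 * (X2 1)⁻¹ * (X5 1)⁻¹ := by
  apply Subtype.ext
  change x6 (1 : K) = x2 1 * x5 1 * (x2 1)⁻¹ * (x5 1)⁻¹
  refine GU.ext ?_ ?_ ?_ ?_ ?_ ?_
  · rw [cm_a]; rfl
  · rw [cm_b]; rfl
  · rw [cm_c]; simp [x2, x5, x6]
  · rw [cm_d]; simp [x2, x5, x6]
  · rw [cm_e]; simp [x2, x5, x6]
  · rw [cm_f]; simp [x2, x5, x6]

/-- homomorphisms agreeing on the generators are equal -/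
theorem ext_gen (h : HypG K 2 1) {M : Type*} [Group M] {φ ψ : Qa K →* M} (h2 : φ (X2 1) = ψ (X2 1))
    (h3 : φ (X3 1) = ψ (X3 1)) (h4 : φ (X4 1) = ψ (X4 1)) (h5 : φ (X5 1) = ψ (X5 1)) : φ = ψ := by
  obtain ⟨o2, o3, o4, o5, o6⟩ := one_of_zero (K := K)
  have h6 : φ (X6 1) = ψ (X6 1) := by
    rw [X6_eq, map_mul, map_mul, map_mul, map_mul, map_mul, map_mul, map_inv, map_inv, map_inv, map_inv, h2, h5]
  have k2 : ∀ t : K, φ (X2 t) = ψ (X2 t) := by
    intro t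
    rcases two_elts h t with rfl | rfl
    · rw [o2, map_one, map_one]
    · exact h2
  have k3 : ∀ t : K, φ (X3 t) = ψ (X3 t) := by
    intro t
    rcases two_elts h t with rfl | rfl
    · rw [o3, map_one, map_one]
    · exact h3
  have k4 : ∀ t : K, φ (X4 t) = ψ (X4 t) := by
    intro t
    rcases two_elts h t with rfl | rfl
    · rw [o4, map_one, map_one]
    · exact h4
  have k5 : ∀ t : K, φ (X5 t) = ψ (X5 t) := by
    intro t
    rcases two_elts h t with rfl | rfl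
    · rw [o5, map_one, map_one]
    · exact h5
  have k6 : ∀ t : K, φ (X6 t) = ψ (X6 t) := by
    intro t
    rcases two_elts h t with rfl | rfl
    · rw [o6, map_one, map_one]
    · exact h6
  ext1 g
  rw [dec_Qa g, map_mul, map_mul, map_mul, map_mul, map_mul, map_mul, map_mul, map_mul, k2, k3, k4, k5, k6]

/-! ### codes of automorphisms -/

/-- the code of an automorphism of `Q_a` -/
noncomputable def co (γ : MulAut (Qa K)) : Cod :=
  (cd ((γ (X2 1) : Qa K) : GU K), cd ((γ (X3 1) : Qa K) : GU K), cd ((γ (X4 1) : Qa K) : GU K),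
    cd ((γ (X5 1) : Qa K) : GU K))

theorem cd_X6 (t : K) : cd (x6 t) = 0 := by
  rw [cd]
  simp [x6, bt_zero]

theorem Z1_of_cd (h : HypG K 2 1) {g : GU K} (ha : g.a = 0) : g ∈ Z1 K ↔ cd g = 0 := by
  constructor
  · rintro ⟨-, hb, hc, hd, he⟩
    rw [cd, hb, hc, hd, he, bt_zero]
  · intro h1
    obtain ⟨hb, hc, hd, he⟩ := cd_inj h (y := 1) (by rw [h1, cd_one])
    exact ⟨ha, hb, hc, hd, he⟩

/-- `Z₁` is characteristic in `Q_a` -/
theorem aut_Z1 (h : HypG K 2 1) (γ : MulAut (Qa K)) {g : Qa K} (hg : (g : GU K) ∈ Z1 K) :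
    ((γ g : Qa K) : GU K) ∈ Z1 K := by
  have h3 := three_ne' h
  rw [Cfsg.Agent.H294.G2.mem_Z1_iff h3 (γ g).2]
  intro y hy
  obtain ⟨z, hz⟩ := γ.surjective ⟨y, hy⟩
  have h1 := (Cfsg.Agent.H294.G2.mem_Z1_iff h3 g.2).1 hg z z.2
  have h4 : g * z = z * g := Subtype.ext h1
  have h5 := congrArg γ h4
  rw [map_mul, map_mul, hz] at h5
  exact congrArg Subtype.val h5

theorem cd_aut_X6 (h : HypG K 2 1) (γ : MulAut (Qa K)) (t : K) : cd ((γ (X6 t) : Qa K) : GU K) = 0 :=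
  (Z1_of_cd h (γ (X6 t)).2).1 (aut_Z1 h γ (x6_mem t))

theorem cd_app (h : HypG K 2 1) (γ : MulAut (Qa K)) (g : Qa K) :
    cd ((γ g : Qa K) : GU K) = app (co γ) (cd (g : GU K)) := by
  obtain ⟨o2, o3, o4, o5, o6⟩ := one_of_zero (K := K)
  have hm : ∀ x y : Qa K, cd ((x * y : Qa K) : GU K) = cd (x : GU K) ^^^ cd (y : GU K) := fun x y => cd_mul h y.2
  have k2 : ∀ t : K, cd ((γ (X2 t) : Qa K) : GU K) = bt t * cd ((γ (X2 1) : Qa K) : GU K) := by
    intro t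
    rcases two_elts h t with rfl | rfl
    · rw [o2, map_one, bt_zero, zero_mul]; exact cd_one
    · rw [bt_one, one_mul]
  have k3 : ∀ t : K, cd ((γ (X3 t) : Qa K) : GU K) = bt t * cd ((γ (X3 1) : Qa K) : GU K) := by
    intro t
    rcases two_elts h t with rfl | rfl
    · rw [o3, map_one, bt_zero, zero_mul]; exact cd_one
    · rw [bt_one, one_mul]
  have k4 : ∀ t : K, cd ((γ (X4 t) : Qa K) : GU K) = bt t * cd ((γ (X4 1) : Qa K) : GU K) := by
    intro t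
    rcases two_elts h t with rfl | rfl
    · rw [o4, map_one, bt_zero, zero_mul]; exact cd_one
    · rw [bt_one, one_mul]
  have k5 : ∀ t : K, cd ((γ (X5 t) : Qa K) : GU K) = bt t * cd ((γ (X5 1) : Qa K) : GU K) := by
    intro t
    rcases two_elts h t with rfl | rfl
    · rw [o5, map_one, bt_zero, zero_mul]; exact cd_one
    · rw [bt_one, one_mul]
  obtain ⟨b1, b2, b3, b4, -⟩ := cd_bits (g : GU K)
  conv_lhs => rw [dec_Qa g, map_mul, map_mul, map_mul, map_mul, hm, hm, hm, hm, k2, k3, k4, k5, cd_aut_X6 h]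
  rw [Nat.xor_zero, app, b1, b2, b3, b4]
  rfl

theorem co_mul (h : HypG K 2 1) (γ δ : MulAut (Qa K)) : co (γ * δ) = cmp (co γ) (co δ) := by
  change (cd ((γ (δ (X2 1)) : Qa K) : GU K), cd ((γ (δ (X3 1)) : Qa K) : GU K), cd ((γ (δ (X4 1)) : Qa K) : GU K),
    cd ((γ (δ (X5 1)) : Qa K) : GU K)) = _
  rw [cd_app h γ (δ (X2 1)), cd_app h γ (δ (X3 1)), cd_app h γ (δ (X4 1)), cd_app h γ (δ (X5 1))]
  rfl

theorem cd_gen : cd (x2 (1 : K)) = 1 ∧ cd (x3 (1 : K)) = 2 ∧ cd (x4 (1 : K)) = 4 ∧ cd (x5 (1 : K)) = 8 := by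
  refine ⟨?_, ?_, ?_, ?_⟩
  · rw [cd]; simp [x2, bt_zero, bt_one]
  · rw [cd]; simp [x3, bt_zero, bt_one]
  · rw [cd]; simp [x4, bt_zero, bt_one]
  · rw [cd]; simp [x5, bt_zero, bt_one]

theorem co_one : co (1 : MulAut (Qa K)) = c1 := by
  obtain ⟨h2, h3, h4, h5⟩ := cd_gen (K := K)
  change (cd (x2 1), cd (x3 1), cd (x4 1), cd (x5 1)) = _
  rw [h2, h3, h4, h5]
  rfl

/-- the quadratic form -/
theorem sq_iff (h : HypG K 2 1) (g : Qa K) : g * g = 1 ↔ qf (cd (g : GU K)) = 0 := by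
  have h2 := two_zero h
  have ha : (g : GU K).a = 0 := g.2
  obtain ⟨b1, b2, b3, b4, -⟩ := cd_bits (g : GU K)
  have e1 : g * g = 1 ↔ (g : GU K).d * (g : GU K).c + (g : GU K).e * (g : GU K).b = 0 := by
    have e2 : ((g : GU K) * g).f = (g : GU K).d * (g : GU K).c + (g : GU K).e * (g : GU K).b := by
      rw [GU.mul_f, ha]
      linear_combination ((g : GU K).f + (g : GU K).d * (g : GU K).c - (g : GU K).e * (g : GU K).b) * h2
    constructor
    · intro h1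
      have h3 := congrArg GU.f (congrArg Subtype.val h1)
      change ((g : GU K) * g).f = 0 at h3
      rw [← e2, h3]
    · intro h1
      rw [← e2] at h1
      apply Subtype.ext
      change (g : GU K) * g = 1
      refine GU.ext ?_ ?_ ?_ ?_ ?_ ?_
      · rw [GU.mul_a, ha, add_zero]; rfl
      · rw [GU.mul_b]
        show _ = (0 : K)
        linear_combination (g : GU K).b * h2
      · rw [GU.mul_c, ha]
        show _ = (0 : K)
        linear_combination (g : GU K).c * h2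
      · rw [GU.mul_d, ha]
        show _ = (0 : K)
        linear_combination (g : GU K).d * h2
      · rw [GU.mul_e, ha]
        show _ = (0 : K)
        linear_combination (g : GU K).e * h2
      · exact h1
  rw [e1, qf, b1, b2, b3, b4]
  have h11 : (1 : K) + 1 = 0 := by linear_combination h2
  rcases two_elts h (g : GU K).b with hb | hb <;> rcases two_elts h (g : GU K).c with hc | hc <;>
    rcases two_elts h (g : GU K).d with hd | hd <;> rcases two_elts h (g : GU K).e with he | he <;>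
    rw [hb, hc, hd, he] <;> simp [bt_zero, bt_one, h11]

theorem exists_cd {v : ℕ} (hv : v < 16) : ∃ g : Qa K, cd (g : GU K) = v := by
  have hb : ∀ n < 2, ∃ t : K, bt t = n := by
    intro n hn
    rcases Nat.lt_or_ge n 1 with h1 | h1
    · exact ⟨0, by rw [bt_zero]; omega⟩
    · exact ⟨1, by rw [bt_one]; omega⟩
  obtain ⟨b, hb'⟩ := hb (v % 2) (by omega)
  obtain ⟨c, hc'⟩ := hb (v / 2 % 2) (by omega)
  obtain ⟨d, hd'⟩ := hb (v / 4 % 2) (by omega)
  obtain ⟨e, he'⟩ := hb (v / 8 % 2) (by omega)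
  refine ⟨⟨⟨0, b, c, d, e, 0⟩, rfl⟩, ?_⟩
  rw [cd]
  simp only
  rw [hb', hc', hd', he']
  omega

theorem co_mem_OL (h : HypG K 2 1) (γ : MulAut (Qa K)) : co γ ∈ OL := by
  refine mem_OL (cd_bits _).2.2.2.2 (cd_bits _).2.2.2.2 (cd_bits _).2.2.2.2 (cd_bits _).2.2.2.2 fun v hv => ?_
  obtain ⟨g, rfl⟩ := exists_cd (K := K) hv
  rw [← cd_app h]
  have h1 : γ g * γ g = 1 ↔ g * g = 1 := by
    rw [← map_mul, map_eq_one_iff γ γ.injective]
  rw [sq_iff h, sq_iff h] at h1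
  have hq : ∀ v, qf v < 2 := fun v => Nat.mod_lt _ (by norm_num)
  have q1 := hq (cd ((γ g : Qa K) : GU K))
  have q2 := hq (cd (g : GU K))
  omega

/-! ### the kernel and `Aut_S(Q_a)` -/

/-- automorphisms acting trivially modulo `Z₁` are inner -/
theorem inner_of_co (h : HypG K 2 1) {γ : MulAut (Qa K)} (hγ : co γ = c1) : ∃ w : Qa K, γ = MulAut.conj w := by
  have h2 := two_zero h
  have hc : ∀ g : Qa K, cd ((γ g : Qa K) : GU K) = cd (g : GU K) := by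
    intro g
    rw [cd_app h, hγ, ← co_one (K := K), ← cd_app h, MulAut.one_apply]
  have key : ∀ g : Qa K, ((γ g : Qa K) : GU K) = ⟨0, (g : GU K).b, (g : GU K).c, (g : GU K).d, (g : GU K).e,
      ((γ g : Qa K) : GU K).f⟩ := by
    intro g
    obtain ⟨hb, hc, hd, he⟩ := cd_inj h (hc g)
    exact GU.ext (γ g).2 hb hc hd he rfl
  let w : Qa K := ⟨⟨0, ((γ (X5 1) : Qa K) : GU K).f, ((γ (X4 1) : Qa K) : GU K).f, ((γ (X3 1) : Qa K) : GU K).f,
    ((γ (X2 1) : Qa K) : GU K).f, 0⟩, rfl⟩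
  refine ⟨w, ?_⟩
  have hw : (w : GU K) = ⟨0, ((γ (X5 1) : Qa K) : GU K).f, ((γ (X4 1) : Qa K) : GU K).f, ((γ (X3 1) : Qa K) : GU K).f,
    ((γ (X2 1) : Qa K) : GU K).f, 0⟩ := rfl
  have hcj : ∀ g : Qa K, ((MulAut.conj w g : Qa K) : GU K) = ⟨0, (g : GU K).b, (g : GU K).c, (g : GU K).d, (g : GU K).e,
      (g : GU K).f + (w : GU K).b * (g : GU K).e + (w : GU K).c * (g : GU K).d + (w : GU K).d * (g : GU K).c +
        (w : GU K).e * (g : GU K).b⟩ := by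
    intro g
    have ha : (g : GU K).a = 0 := g.2
    have hwa : (w : GU K).a = 0 := w.2
    change (w : GU K) * g * (w : GU K)⁻¹ = _
    refine GU.ext ?_ ?_ ?_ ?_ ?_ ?_
    · rw [cj_a, ha]
    · rw [cj_b]
    · rw [cj_c, ha, hwa]; ring
    · rw [cj_d, ha, hwa]; ring
    · rw [cj_e, ha, hwa]; ring
    · rw [cj_f, ha, hwa]
      linear_combination (-2 * (w : GU K).c * (g : GU K).d + (w : GU K).d * (g : GU K).c - (w : GU K).e * (g : GU K).b) * h2
  have e1 := ext_gen h (φ := γ.toMonoidHom) (ψ := (MulAut.conj w).toMonoidHom) ?_ ?_ ?_ ?_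
  · ext1 g
    exact DFunLike.congr_fun e1 g
  · apply Subtype.ext
    refine (key (X2 1)).trans ((hcj (X2 1)).trans ?_).symm
    change (⟨0, 1, 0, 0, 0, 0 + _ * 0 + _ * 0 + _ * 0 + (w : GU K).e * 1⟩ : GU K) = ⟨0, 1, 0, 0, 0, _⟩
    rw [hw]
    simp
  · apply Subtype.ext
    refine (key (X3 1)).trans ((hcj (X3 1)).trans ?_).symm
    change (⟨0, 0, 1, 0, 0, 0 + _ * 0 + _ * 0 + (w : GU K).d * 1 + _ * 0⟩ : GU K) = ⟨0, 0, 1, 0, 0, _⟩
    rw [hw]
    simp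
  · apply Subtype.ext
    refine (key (X4 1)).trans ((hcj (X4 1)).trans ?_).symm
    change (⟨0, 0, 0, 1, 0, 0 + _ * 0 + (w : GU K).c * 1 + _ * 0 + _ * 0⟩ : GU K) = ⟨0, 0, 0, 1, 0, _⟩
    rw [hw]
    simp
  · apply Subtype.ext
    refine (key (X5 1)).trans ((hcj (X5 1)).trans ?_).symm
    change (⟨0, 0, 0, 0, 1, 0 + (w : GU K).b * 1 + _ * 0 + _ * 0 + _ * 0⟩ : GU K) = ⟨0, 0, 0, 0, 1, _⟩
    rw [hw]
    simp

theorem mem_aut_of_co (h : HypG K 2 1) {γ : MulAut (Qa K)} (hγ : co γ = c1) : γ ∈ autInducedBy ⊤ (Qa K) := by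
  obtain ⟨w, rfl⟩ := inner_of_co h hγ
  rw [H802.mem_autInducedBy_iff]
  exact ⟨w, Subgroup.mem_top _, fun _ => rfl⟩

theorem co_eq_mem (h : HypG K 2 1) {γ δ : MulAut (Qa K)} (hγ : co γ = co δ) : δ⁻¹ * γ ∈ autInducedBy ⊤ (Qa K) := by
  apply mem_aut_of_co h
  rw [co_mul h, hγ, ← co_mul h, inv_mul_cancel, co_one]

/-- the codes of `Aut_S(Q_a)` -/
theorem co_aut (h : HypG K 2 1) {γ : MulAut (Qa K)} (hγ : γ ∈ autInducedBy ⊤ (Qa K)) : co γ = c1 ∨ co γ = ct := by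
  have h2 := two_zero h
  rw [H802.mem_autInducedBy_iff] at hγ
  obtain ⟨x, -, hx⟩ := hγ
  have h31 : (3 : K) = 1 := by linear_combination h2
  have hm1 : (-1 : K) = 1 := by linear_combination -h2
  rcases two_elts h x.a with ha | ha
  · left
    have h1 : ∀ g : Qa K, cd ((γ g : Qa K) : GU K) = cd (g : GU K) := by
      intro g
      have hg : (g : GU K).a = 0 := g.2
      rw [hx, cd, cj_b, cj_c, cj_d, cj_e, ha, hg, cd]
      congr 1
      · congr 1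
        · congr 3
          ring
        · congr 2
          ring
      · congr 2
        ring
    rw [co, h1, h1, h1, h1, ← co_one (K := K)]
    rfl
  · right
    have h1 : ∀ g : Qa K, cd ((γ g : Qa K) : GU K) = bt (g : GU K).b + 2 * bt ((g : GU K).b + (g : GU K).c) +
        4 * bt ((g : GU K).b + (g : GU K).d) + 8 * bt ((g : GU K).b + (g : GU K).c + (g : GU K).d + (g : GU K).e) := by
      intro g
      have hg : (g : GU K).a = 0 := g.2
      rw [hx, cd, cj_b, cj_c, cj_d, cj_e, ha, hg]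
      congr 1
      · congr 1
        · congr 3
          linear_combination (-(g : GU K).b) * h2
        · congr 2
          linear_combination (-(g : GU K).c) * h2
      · congr 2
        linear_combination ((g : GU K).c - (g : GU K).b - 2 * (g : GU K).d) * h2
    have e2 : cd ((γ (X2 1) : Qa K) : GU K) = 15 := by
      rw [h1]
      change bt (1 : K) + 2 * bt ((1 : K) + 0) + 4 * bt ((1 : K) + 0) + 8 * bt ((1 : K) + 0 + 0 + 0) = 15
      simp [bt_one]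
    have e3 : cd ((γ (X3 1) : Qa K) : GU K) = 10 := by
      rw [h1]
      change bt (0 : K) + 2 * bt ((0 : K) + 1) + 4 * bt ((0 : K) + 0) + 8 * bt ((0 : K) + 1 + 0 + 0) = 10
      simp [bt_one, bt_zero]
    have e4 : cd ((γ (X4 1) : Qa K) : GU K) = 12 := by
      rw [h1]
      change bt (0 : K) + 2 * bt ((0 : K) + 0) + 4 * bt ((0 : K) + 1) + 8 * bt ((0 : K) + 0 + 1 + 0) = 12
      simp [bt_one, bt_zero]
    have e5 : cd ((γ (X5 1) : Qa K) : GU K) = 8 := by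
      rw [h1]
      change bt (0 : K) + 2 * bt ((0 : K) + 0) + 4 * bt ((0 : K) + 0) + 8 * bt ((0 : K) + 0 + 0 + 1) = 8
      simp [bt_one, bt_zero]
    rw [co, e2, e3, e4, e5]
    rfl

/-- there is an element of `Aut_S(Q_a)` with code `ct` -/
theorem exists_ct (h : HypG K 2 1) : ∃ τ ∈ autInducedBy ⊤ (Qa K), co τ = ct := by
  have hn : (Qa K).Normal := ⟨fun g hg x => by
    show (x * g * x⁻¹).a = 0
    rw [cj_a]
    exact hg⟩
  refine ⟨MulAut.conjNormal (x1 (1 : K)), ?_, ?_⟩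
  · rw [H802.mem_autInducedBy_iff]
    exact ⟨x1 1, Subgroup.mem_top _, fun x => MulAut.conjNormal_apply _ _⟩
  · rcases co_aut h (γ := MulAut.conjNormal (x1 (1 : K))) (by
      rw [H802.mem_autInducedBy_iff]
      exact ⟨x1 1, Subgroup.mem_top _, fun x => MulAut.conjNormal_apply _ _⟩) with h1 | h1
    · exfalso
      have h3 : cd (((MulAut.conjNormal (x1 (1 : K)) : MulAut (Qa K)) (X3 1) : Qa K) : GU K) = 2 := congrArg (fun m : Cod => m.2.1) h1
      have h4 := (cd_bits (((MulAut.conjNormal (x1 (1 : K)) : MulAut (Qa K)) (X3 1) : Qa K) : GU K)).2.2.2.1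
      rw [h3, MulAut.conjNormal_apply, cj_e] at h4
      have h2 := two_zero h
      have h5 : (-3 * (x1 (1 : K)).a * (x1 (1 : K)).b * (X3 (1 : K) : GU K).a ^ 2 - 6 * (x1 (1 : K)).a * (x1 (1 : K)).c * (X3 (1 : K) : GU K).a -
          3 * (x1 (1 : K)).a * (X3 (1 : K) : GU K).d + 3 * (x1 (1 : K)).a ^ 2 * (x1 (1 : K)).b * (X3 (1 : K) : GU K).a +
          3 * (x1 (1 : K)).a ^ 2 * (X3 (1 : K) : GU K).c - (x1 (1 : K)).a ^ 3 * (X3 (1 : K) : GU K).b +
          (x1 (1 : K)).b * (X3 (1 : K) : GU K).a ^ 3 + 3 * (x1 (1 : K)).c * (X3 (1 : K) : GU K).a ^ 2 +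
          3 * (x1 (1 : K)).d * (X3 (1 : K) : GU K).a + (X3 (1 : K) : GU K).e) = 1 := by
        simp [x1, X3, x3]
        linear_combination h2
      rw [h5, bt_one] at h4
      omega
    · exact h1

end Cfsg.Agent.H809.GT
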