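import Cfsg.Agent.H809.GT.Ga2Main
import Cfsg.Agent.H780.GT2.Rows

/-!
# S5211, `q = 2`: `StGax` (helper809)
-/

set_option autoImplicit false

namespace Cfsg.Agent.H809.GT

open Cfsg Cfsg.Agent.H779.G2 Cfsg.Agent.H756.PU Cfsg.Agent.H103.GT

universe u

/-- the test for `Lr r`: closed under products and left inverses -/
def clC (l : List Cod) : Bool :=
  (l.all fun m => l.all fun n => memC (cmp m n) l) &&
    (OL.all fun g => l.all fun m => !(beqC (cmp g m) c1) || memC g l)

theorem cl1 : clC (Lr cr1) = true := by decide +kernel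
theorem cl2 : clC (Lr cr2) = true := by decide +kernel
theorem cl12 : clC (Lr cr12) = true := by decide +kernel
theorem cl122 : clC (Lr cr122) = true := by decide +kernel

variable {K : Type u} [Field K]

theorem genR_codes (h : HypG K 2 1) {M : Matrix (Fin 4) (Fin 4) K} (hl : clC (Lr (cM M)) = true) {γ : MulAut (Qa K)}
    (hγ : γ ∈ GenR {M}) : co γ ∈ Lr (cM M) := by
  simp only [clC, Bool.and_eq_true, List.all_eq_true, Bool.or_eq_true] at hl
  obtain ⟨h1, h2⟩ := hl
  let H : Subgroup (MulAut (Qa K)) :=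
    { carrier := {δ | co δ ∈ Lr (cM M)}
      one_mem' := by
        change co (1 : MulAut (Qa K)) ∈ Lr (cM M)
        rw [co_one]
        exact List.mem_cons_self
      mul_mem' := by
        intro a b ha hb
        change co (a * b) ∈ Lr (cM M)
        rw [co_mul h]
        exact memC_iff.1 (h1 _ ha _ hb)
      inv_mem' := by
        intro a ha
        change co a⁻¹ ∈ Lr (cM M)
        rcases h2 _ (co_mem_OL h a⁻¹) _ ha with h3 | h3
        · exfalso
          rw [← co_mul h, inv_mul_cancel, co_one] at h3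
          have h4 : beqC c1 c1 = true := beqC_iff.2 rfl
          rw [h4] at h3
          exact absurd h3 (by decide)
        · exact memC_iff.1 h3 }
  have h5 : GenR {M} ≤ H := by
    rw [GenR, Subgroup.closure_le]
    rintro δ (hδ | ⟨M', hM', hL⟩)
    · change co δ ∈ Lr (cM M)
      rcases co_aut h hδ with h6 | h6
      · rw [h6]; exact List.mem_cons_self
      · rw [h6]
        exact List.mem_cons_of_mem _ (List.mem_cons_of_mem _ (List.mem_cons_of_mem _ List.mem_cons_self))
    · rw [Set.mem_singleton_iff.1 hM'] at hL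
      change co δ ∈ Lr (cM M)
      rw [(linA_iff h).1 hL]
      exact List.mem_cons_of_mem _ List.mem_cons_self
  exact h5 hγ

theorem hypG_two : HypG (ZMod 2) 2 1 :=
  ⟨Nat.prime_two, le_rfl, inferInstance, by rw [Nat.card_eq_fintype_card, ZMod.card]; rfl, inferInstance⟩

theorem stGax : Cfsg.Agent.H780.GT2.StGax := by
  have h := hypG_two
  have n1 : cr2 ∉ Lr cr1 := fun hm => absurd (memC_iff.2 hm) (by decide +kernel)
  have n2 : cr1 ∉ Lr cr2 := fun hm => absurd (memC_iff.2 hm) (by decide +kernel)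
  have n3 : cr1 ∉ Lr cr12 := fun hm => absurd (memC_iff.2 hm) (by decide +kernel)
  have n4 : cr2 ∉ Lr cr12 := fun hm => absurd (memC_iff.2 hm) (by decide +kernel)
  have n5 : cr1 ∉ Lr cr122 := fun hm => absurd (memC_iff.2 hm) (by decide +kernel)
  have n6 : cr2 ∉ Lr cr122 := fun hm => absurd (memC_iff.2 hm) (by decide +kernel)
  refine ⟨?_, ?_, ?_, ?_⟩
  · rintro ⟨γ, hγ, hL⟩
    have h1 := genR_codes h (by rw [cM_R1]; exact cl1) hγ
    rw [(linA_iff h).1 hL, cM_R1, cM_R2] at h1
    exact n1 h1
  · rintro ⟨γ, hγ, hL⟩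
    have h1 := genR_codes h (by rw [cM_R2]; exact cl2) hγ
    rw [(linA_iff h).1 hL, cM_R1, cM_R2] at h1
    exact n2 h1
  · rintro ⟨γ, hγ, hL⟩
    have h1 := genR_codes h (by rw [cM_R12]; exact cl12) hγ
    rw [cM_R12] at h1
    rcases hL with hL | hL
    · rw [(linA_iff h).1 hL, cM_R1] at h1
      exact n3 h1
    · rw [(linA_iff h).1 hL, cM_R2] at h1
      exact n4 h1
  · rintro ⟨γ, hγ, hL⟩
    have h1 := genR_codes h (by rw [cM_R122 h]; exact cl122) hγ
    rw [cM_R122 h] at h1
    rcases hL with hL | hL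
    · rw [(linA_iff h).1 hL, cM_R1] at h1
      exact n5 h1
    · rw [(linA_iff h).1 hL, cM_R2] at h1
      exact n6 h1

end Cfsg.Agent.H809.GT
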